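/-
Subgroups of order thirteen at type M(24).
-/
import Cfsg.Agent.H2.Fischer.Thirteen22
import Cfsg.Agent.H84.Fischer.Fixed

set_option autoImplicit false
set_option linter.style.haveILetI false

namespace H24.Fischer

open Cfsg H99 H65.Fischer Subgroup
open H82.Fischer

variable {G : Type*} [Group G] [Finite G] {D : Set G}
  (hD : IsThreeTranspositionGroup D) (hp : IsPrimitiveUnderConj D) (h : IsOfTypeM24 G D)
include hD hp h

theorem thirteen_sq_not_dvd : ¬ 13 ^ 2 ∣ Nat.card G := by
  rw [H82.Fischer.card_m24 hD hp h]; norm_num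

theorem conjugate_thirteen {X Y : Subgroup G} (hX : Nat.card X = 13) (hY : Nat.card Y = 13) :
    ∃ g : G, X.map (MulAut.conj g).toMonoidHom = Y := by
  haveI := Fact.mk (by norm_num : (13 : ℕ).Prime)
  have hfac : (Nat.card G).factorization 13 = 1 :=
    factorization_eq (by norm_num) Nat.card_pos.ne'
      (by rw [pow_one, ← hX]; exact X.card_subgroup_dvd_card) (thirteen_sq_not_dvd hD hp h)
  exact conjugate_of_card (p := 13) (by rw [hX, hfac, pow_one]) (by rw [hY, hfac, pow_one])

/-- Below a fixed member: the orders in the normaliser and the centraliser. -/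
theorem card_thirteen_local {B : Subgroup G} (hB : Nat.card B = 13) {x : G}
    (hx : x ∈ fixSet D B) :
    Nat.card (normalizer (B : Set G) ⊓ centralizer ({x} : Set G) : Subgroup G) = 936 ∧
      Nat.card (centralizer (B : Set G) ⊓ centralizer ({x} : Set G) : Subgroup G) = 156 := by
  have hs := H82.Fischer.m24_step hD hp h
  obtain ⟨d₀, hd₀, hD', hp', h'⟩ := down_m24 hD hp h
  obtain ⟨g, hg, hd⟩ := exists_conj_fix hs.cls hx hd₀
  have hY : Nat.card (conjSub g B) = 13 := (card_conjSub g B).trans hB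
  have hodd : Odd (Nat.card (conjSub g B)) := hY ▸ (by decide)
  have hXd := le_cent_of_fix hd
  obtain ⟨-, hN, hC⟩ := H2.Fischer.thirteen23 hD' hp' h'
    ((card_downSub hd₀ hXd hodd hs).trans hY)
  constructor
  · rw [← norm_inf_conj g x B, hg, card_norm_inf hd₀ hXd hodd hs, hN]
  · rw [← cent_inf_conj g x B, hg, card_cent_inf hd₀ hXd hodd hs, hC]

/-- The six members centralised by a subgroup of order thirteen of the centraliser of four. -/
theorem fixSet_thirteen {B : Subgroup G} (hB : Nat.card B = 13) {a b c d : G}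
    (ha : a ∈ fixSet D B) (hb : b ∈ fixSet D B) (hc : c ∈ fixSet D B) (hd : d ∈ fixSet D B)
    (had : ¬ Commute a d) (hbc : ¬ Commute b c) (hab : Commute a b) (hac : Commute a c)
    (hdb : Commute d b) (hdc : Commute d c) :
    fixSet D B = lineSet a d ∪ lineSet b c := by
  have hs := H82.Fischer.m24_step hD hp h
  obtain ⟨-, h1, -⟩ := line_facts hs.tt hs.conj ha.1 hd.1 had
  obtain ⟨-, h2, -⟩ := line_facts hs.tt hs.conj hb.1 hc.1 hbc
  refine (Set.eq_of_subset_of_ncard_le (Set.union_subset (fixSet_third hs.tt hs.conj ha hd)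
    (fixSet_third hs.tt hs.conj hb hc)) ?_ (Set.toFinite _)).symm
  have hdisj : Disjoint (lineSet a d) (lineSet b c) := by
    rw [Set.disjoint_left]
    intro u hu hu'
    have hub : Commute u b := by
      rcases hu with rfl | rfl | rfl
      exacts [hab, hdb, (hab.mul_left hdb).mul_left hab]
    have huc : Commute u c := by
      rcases hu with rfl | rfl | rfl
      exacts [hac, hdc, (hac.mul_left hdc).mul_left hac]
    rcases hu' with rfl | rfl | rfl
    · exact hbc huc
    · exact hbc hub.symm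
    · exact (tt_third hs.tt hs.conj hb.1 hc.1 hbc).2.1 hub.symm
  rw [Set.ncard_union_eq hdisj (Set.toFinite _) (Set.toFinite _), h1, h2]
  exact H84.Fi.thirteen24 hD hp h hB

section six

variable {B : Subgroup G} {a b c d : G}
  (ha : a ∈ fixSet D B) (hb : b ∈ fixSet D B) (hc : c ∈ fixSet D B) (hd : d ∈ fixSet D B)
  (had : ¬ Commute a d) (hbc : ¬ Commute b c) (hab : Commute a b) (hac : Commute a c)
  (hdb : Commute d b) (hdc : Commute d c) (hB : Nat.card B = 13)
include ha hb hc hd had hbc hab hac hdb hdc hB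

/-- A fixed member not commuting with the first lies on its line. -/
theorem mem_line_of_not_commute {y : G} (hy : y ∈ fixSet D B) (hya : ¬ Commute a y) :
    y = d ∨ y = a * d * a := by
  rw [fixSet_thirteen hD hp h hB ha hb hc hd had hbc hab hac hdb hdc] at hy
  rcases hy with (rfl | rfl | rfl) | (rfl | rfl | rfl)
  · exact absurd (Commute.refl _) hya
  · exact Or.inl rfl
  · exact Or.inr rfl
  · exact absurd hab hya
  · exact absurd hac hya
  · exact absurd ((hab.mul_right hac).mul_right hab) hya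

/-- A fixed member commuting with both ends of the first line lies on the second. -/
theorem mem_line_of_commute {y : G} (hy : y ∈ fixSet D B) (hya : Commute a y) (hyd : Commute d y) :
    y ∈ lineSet b c := by
  rw [fixSet_thirteen hD hp h hB ha hb hc hd had hbc hab hac hdb hdc] at hy
  rcases hy with (rfl | rfl | rfl) | hy
  · exact absurd hyd.symm had
  · exact absurd hya had
  · exact absurd hya (tt_third (H82.Fischer.m24_step hD hp h).tt (H82.Fischer.m24_step hD hp h).conj
      ha.1 hd.1 had).2.1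
  · exact hy

/-- The orbit and stabiliser chain through the six fixed members. -/
theorem card_chain (H : Subgroup G) (hfix : ∀ g ∈ H, ∀ y ∈ fixSet D B, g * y * g⁻¹ ∈ fixSet D B)
    (haH : a ∈ H) (hbH : b ∈ H) (hcH : c ∈ H) :
    Nat.card (H ⊓ centralizer ({a} : Set G) : Subgroup G) =
      12 * Nat.card (H ⊓ centralizer ({a, b, c, d} : Set G) : Subgroup G) := by
  have hs := H82.Fischer.m24_step hD hp h
  have hT := hs.tt
  have inv : ∀ {u}, u ∈ fixSet D B → u⁻¹ = u := fun hu => tt_inv hT hu.1
  set H1 := H ⊓ centralizer ({a} : Set G)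
  set H2 := H1 ⊓ centralizer ({d} : Set G)
  set H3 := H2 ⊓ centralizer ({b} : Set G)
  have hbH2 : b ∈ H2 := ⟨⟨hbH, mem_centralizer_singleton_iff.2 hab.symm.eq⟩,
    mem_centralizer_singleton_iff.2 hdb.symm.eq⟩
  have hcH2 : c ∈ H2 := ⟨⟨hcH, mem_centralizer_singleton_iff.2 hac.symm.eq⟩,
    mem_centralizer_singleton_iff.2 hdc.symm.eq⟩
  have hada : a ≠ d ∧ d ≠ a * d * a ∧ b ≠ c ∧ c ≠ b * c * b := by
    refine ⟨fun e => had (by rw [e]), fun e => ?_, fun e => hbc (by rw [e]), fun e => ?_⟩
    · exact (tt_third hT hs.conj ha.1 hd.1 had).2.2 (by rw [← e])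
    · exact (tt_third hT hs.conj hb.1 hc.1 hbc).2.2 (by rw [← e])
  have e1 : Nat.card H1 = 2 * Nat.card H2 := by
    have := card_eq_orbit H1 {d, a * d * a} (fun g hg y hy => ?_) (x := d) (Or.inl rfl)
      (fun y hy => ?_)
    · rwa [Set.ncard_pair hada.2.1] at this
    · have hyF : y ∈ fixSet D B := by
        rcases hy with rfl | rfl
        · exact hd
        · exact fixSet_third hT hs.conj ha hd (Or.inr (Or.inr rfl))
      have hya : ¬ Commute a y := by
        rcases hy with rfl | rfl
        · exact had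
        · exact (tt_third hT hs.conj ha.1 hd.1 had).2.1
      refine mem_line_of_not_commute hD hp h ha hb hc hd had hbc hab hac hdb hdc hB
        (hfix g (mem_inf.1 hg).1 y hyF) fun hcm => hya ?_
      have hga := conj_eq_iff_mem_centralizer.2 (mem_inf.1 hg).2
      exact (conj_commute_iff g a y).1 (by rwa [hga])
    · rcases hy with rfl | rfl
      · exact ⟨1, one_mem _, by group⟩
      · exact ⟨a, ⟨haH, mem_centralizer_singleton_iff.2 rfl⟩, by rw [inv ha]⟩
  have e2 : Nat.card H2 = 3 * Nat.card H3 := by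
    have := card_eq_orbit H2 (lineSet b c) (fun g hg y hy => ?_) (x := b) (Or.inl rfl)
      (fun y hy => ?_)
    · rwa [(line_facts hT hs.conj hb.1 hc.1 hbc).2.1] at this
    · have hyF := fixSet_third hT hs.conj hb hc hy
      have hga := conj_eq_iff_mem_centralizer.2 (mem_inf.1 (mem_inf.1 hg).1).2
      have hgd := conj_eq_iff_mem_centralizer.2 (mem_inf.1 hg).2
      have hya : Commute a y := by
        rcases hy with rfl | rfl | rfl
        exacts [hab, hac, (hab.mul_right hac).mul_right hab]
      have hyd : Commute d y := by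
        rcases hy with rfl | rfl | rfl
        exacts [hdb, hdc, (hdb.mul_right hdc).mul_right hdb]
      refine mem_line_of_commute hD hp h ha hb hc hd had hbc hab hac hdb hdc hB
        (hfix g (mem_inf.1 (mem_inf.1 hg).1).1 y hyF) ?_ ?_
      · have := (conj_commute_iff g a y).2 hya; rwa [hga] at this
      · have := (conj_commute_iff g d y).2 hyd; rwa [hgd] at this
    · rcases hy with hy1 | hy1 | hy1
      · exact ⟨1, one_mem _, by rw [hy1]; group⟩
      · refine ⟨b * c, mul_mem hbH2 hcH2, ?_⟩
        rw [show y = c from hy1]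
        rw [mul_inv_rev, inv hb, inv hc]
        calc b * c * b * (c * b) = b * c * b * c * b := by group
          _ = c * b * c * c * b := by rw [tt_braid hT hb.1 hc.1 hbc]
          _ = c := by
            rw [mul_assoc (c * b) c c, tt_mul_self hT hc.1, mul_one, mul_assoc, tt_mul_self hT hb.1,
              mul_one]
      · exact ⟨c, hcH2, by rw [show y = b * c * b from hy1, inv hc, tt_braid hT hb.1 hc.1 hbc]⟩
  have e3 : Nat.card H3 = 2 * Nat.card (H3 ⊓ centralizer ({c} : Set G) : Subgroup G) := by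
    have := card_eq_orbit H3 {c, b * c * b} (fun g hg y hy => ?_) (x := c) (Or.inl rfl)
      (fun y hy => ?_)
    · rwa [Set.ncard_pair hada.2.2.2] at this
    · have hg1 := (mem_inf.1 hg).1
      have hga := conj_eq_iff_mem_centralizer.2 (mem_inf.1 (mem_inf.1 hg1).1).2
      have hgd := conj_eq_iff_mem_centralizer.2 (mem_inf.1 hg1).2
      have hgb := conj_eq_iff_mem_centralizer.2 (mem_inf.1 hg).2
      have hyF : y ∈ fixSet D B := by
        rcases hy with rfl | rfl
        · exact hc
        · exact fixSet_third hT hs.conj hb hc (Or.inr (Or.inr rfl))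
      have hyb : ¬ Commute b y := by
        rcases hy with rfl | rfl
        · exact hbc
        · exact (tt_third hT hs.conj hb.1 hc.1 hbc).2.1
      refine mem_line_of_not_commute hD hp h hb ha hd hc hbc had hab.symm hdb.symm hac.symm hdc.symm
        hB (hfix g (mem_inf.1 (mem_inf.1 hg1).1).1 y hyF) fun hcm => hyb ?_
      exact (conj_commute_iff g b y).1 (by rwa [hgb])
    · rcases hy with rfl | rfl
      · exact ⟨1, one_mem _, by group⟩
      · exact ⟨b, mem_inf.2 ⟨hbH2, mem_centralizer_singleton_iff.2 rfl⟩, by rw [inv hb]⟩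
  have e4 : H3 ⊓ centralizer ({c} : Set G) = H ⊓ centralizer ({a, b, c, d} : Set G) := by
    ext g
    constructor
    · rintro ⟨⟨⟨⟨h0, h1⟩, h2⟩, h3⟩, h4⟩
      refine ⟨h0, mem_centralizer_iff.2 ?_⟩
      rintro y (rfl | rfl | rfl | rfl)
      exacts [(mem_centralizer_singleton_iff.1 h1).symm, (mem_centralizer_singleton_iff.1 h3).symm,
        (mem_centralizer_singleton_iff.1 h4).symm, (mem_centralizer_singleton_iff.1 h2).symm]
    · rintro ⟨h0, h1⟩
      have := mem_centralizer_iff.1 h1
      exact ⟨⟨⟨⟨h0, mem_centralizer_singleton_iff.2 (this a (by simp)).symm⟩,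
        mem_centralizer_singleton_iff.2 (this d (by simp)).symm⟩,
        mem_centralizer_singleton_iff.2 (this b (by simp)).symm⟩,
        mem_centralizer_singleton_iff.2 (this c (by simp)).symm⟩
  rw [← e4, e1, e2, e3]
  ring

/-- The four assertions for one subgroup of order thirteen. -/
theorem thirteen24_main :
    Subgroup.normalizer (B : Set G) ≤
        Subgroup.normalizer (centralizer ((closure ({a, b, c, d} : Set G) : Subgroup G) : Set G) : Set G) ∧
      Nat.card ↥(centralizer ({a, b, c, d} : Set G) ⊓ normalizer (B : Set G)) = 78 ∧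
      centralizer ({a, b, c, d} : Set G) ⊓ centralizer (B : Set G) = B ∧
      (((centralizer ({a, b, c, d} : Set G) ⊓ normalizer (B : Set G)) ⊔
        closure ({a, b, c, d} : Set G)).subgroupOf (normalizer (B : Set G))).index = 2 := by
  haveI := Fact.mk (by norm_num : (13 : ℕ).Prime)
  have hs := H82.Fischer.m24_step hD hp h
  have hT := hs.tt
  set N := normalizer (B : Set G)
  set T := closure ({a, b, c, d} : Set G)
  set K := centralizer ({a, b, c, d} : Set G)
  have hNfix : ∀ g ∈ N, ∀ y ∈ fixSet D B, g * y * g⁻¹ ∈ fixSet D B :=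
    fun g hg y hy => ⟨hs.conj g y hy.1, centralizer_conj_mem hg hy.2⟩
  have hCN : centralizer (B : Set G) ≤ N := centralizer_le_normalizer B
  have hN := card_chain hD hp h ha hb hc hd had hbc hab hac hdb hdc hB N hNfix
    (hCN ha.2) (hCN hb.2) (hCN hc.2)
  have hC := card_chain hD hp h ha hb hc hd had hbc hab hac hdb hdc hB (centralizer (B : Set G))
    (fun g hg => hNfix g (hCN hg)) ha.2 hb.2 hc.2
  obtain ⟨hNa, hCa⟩ := card_thirteen_local hD hp h hB ha
  rw [hNa] at hN
  rw [hCa] at hC
  change 936 = 12 * Nat.card ↥(N ⊓ K) at hN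
  change 156 = 12 * Nat.card ↥(centralizer (B : Set G) ⊓ K) at hC
  have hBK : B ≤ K := fun x hx => mem_centralizer_iff.2 (by
    rintro y (rfl | rfl | rfl | rfl)
    exacts [(mem_centralizer_iff.1 ha.2 x hx).symm, (mem_centralizer_iff.1 hb.2 x hx).symm,
      (mem_centralizer_iff.1 hc.2 x hx).symm, (mem_centralizer_iff.1 hd.2 x hx).symm])
  have hBC : B ≤ centralizer (B : Set G) := by
    haveI : IsCyclic B := isCyclic_of_prime_card hB
    intro x hx
    refine mem_centralizer_iff.2 fun y hy => ?_
    exact congrArg Subtype.val (IsCyclic.commGroup.mul_comm (⟨y, hy⟩ : B) ⟨x, hx⟩)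
  have h78 : Nat.card ↥(K ⊓ N) = 78 := by rw [inf_comm]; omega
  have h13 : K ⊓ centralizer (B : Set G) = B :=
    (Subgroup.eq_of_le_of_card_ge (le_inf hBK hBC) (by rw [hB, inf_comm]; omega)).symm
  have hfixT : ∀ {y}, y ∈ fixSet D B → y ∈ T := by
    intro y hy
    rw [fixSet_thirteen hD hp h hB ha hb hc hd had hbc hab hac hdb hdc] at hy
    have hm : ∀ {u}, u ∈ ({a, b, c, d} : Set G) → u ∈ T := fun hu => subset_closure hu
    rcases hy with (rfl | rfl | rfl) | (rfl | rfl | rfl)
    · exact hm (by simp)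
    · exact hm (by simp)
    · exact mul_mem (mul_mem (hm (by simp)) (hm (by simp))) (hm (by simp))
    · exact hm (by simp)
    · exact hm (by simp)
    · exact mul_mem (mul_mem (hm (by simp)) (hm (by simp))) (hm (by simp))
  have hTT : ∀ g ∈ N, ∀ y ∈ T, g * y * g⁻¹ ∈ T := by
    intro g hg y hy
    have hsub : T.map (MulAut.conj g).toMonoidHom ≤ T := by
      rw [MonoidHom.map_closure, closure_le]
      rintro _ ⟨u, (rfl | rfl | rfl | rfl), rfl⟩
      exacts [hfixT (hNfix g hg _ ha), hfixT (hNfix g hg _ hb), hfixT (hNfix g hg _ hc),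
        hfixT (hNfix g hg _ hd)]
    exact hsub ⟨y, hy, rfl⟩
  have hNK : N ≤ normalizer (centralizer (T : Set G) : Set G) := by
    intro g hg
    refine mem_normalizer_iff.2 fun x => ⟨fun hx => ?_, fun hx => ?_⟩
    · refine mem_centralizer_iff.2 fun y hy => ?_
      have h1 := mem_centralizer_iff.1 hx _ (hTT g⁻¹ (inv_mem hg) y hy)
      calc y * (g * x * g⁻¹) = g * (g⁻¹ * y * g⁻¹⁻¹ * x) * g⁻¹ := by group
        _ = g * (x * (g⁻¹ * y * g⁻¹⁻¹)) * g⁻¹ := by rw [h1]
        _ = g * x * g⁻¹ * y := by group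
    · refine mem_centralizer_iff.2 fun y hy => ?_
      have h1 := mem_centralizer_iff.1 hx _ (hTT g hg y hy)
      calc y * x = g⁻¹ * (g * y * g⁻¹ * (g * x * g⁻¹)) * g := by group
        _ = g⁻¹ * (g * x * g⁻¹ * (g * y * g⁻¹)) * g := by rw [h1]
        _ = x * y := by group
  refine ⟨hNK, h78, h13, ?_⟩
  -- an element exchanging the two lines
  obtain ⟨g₀, hg₀⟩ := class_isConj hs.cls ha.1 hb.1
  obtain ⟨n₀, hn₀, -, hn₀b⟩ := trans_fix (H := (⊤ : Subgroup G)) hB (mem_top g₀) le_top hg₀
    (le_cent_of_fix ha) (le_cent_of_fix hb)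
    (fun hdvd => thirteen_sq_not_dvd hD hp h (hdvd.trans (card_subgroup_dvd_card _)))
  set T₁ := closure ({a, d} : Set G)
  set M := ((K ⊓ N) ⊔ T)
  have hTN : T ≤ N := by
    rw [closure_le]
    rintro y (rfl | rfl | rfl | rfl)
    exacts [hCN ha.2, hCN hb.2, hCN hc.2, hCN hd.2]
  have haT₁ : a ∈ T₁ := subset_closure (by simp)
  have hdT₁ : d ∈ T₁ := subset_closure (by simp)
  have hMT₁ : ∀ x ∈ M, ∀ y ∈ T₁, x * y * x⁻¹ ∈ T₁ := by
    have hgen : ∀ x ∈ M, x ∈ normalizer (T₁ : Set G) := by
      refine sup_le (fun x hx => ?_) ((closure_le _).2 ?_)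
      · refine mem_normalizer_iff.2 fun y => ?_
        have hcomm : ∀ y ∈ T₁, x * y = y * x := by
          intro y hy
          induction hy using Subgroup.closure_induction with
          | mem y hy =>
            rcases hy with rfl | rfl <;>
              exact (mem_centralizer_iff.1 (mem_inf.1 hx).1 _ (by simp)).symm
          | one => simp
          | mul u w _ _ hu hw => rw [← mul_assoc, hu, mul_assoc, hw, mul_assoc]
          | inv u _ hu => exact (Commute.inv_right (hu : Commute x u)).eq
        constructor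
        · intro hy; rw [hcomm y hy, mul_inv_cancel_right]; exact hy
        · intro hy
          have e := hcomm _ hy
          have e' : x * y * x⁻¹ = y := mul_left_cancel (a := x) (by rw [e]; group)
          rwa [e'] at hy
      · rintro y (rfl | rfl | rfl | rfl)
        · exact le_normalizer haT₁
        · refine centralizer_le_normalizer T₁ (mem_centralizer_iff.2 fun u hu => ?_)
          exact (mem_centralizer_iff.1 ((closure_le _).2 (show ({a, d} : Set G) ⊆
            centralizer ({y} : Set G) by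
            rintro w (rfl | rfl)
            exacts [mem_centralizer_singleton_iff.2 hab.eq, mem_centralizer_singleton_iff.2 hdb.eq])
            hu) y rfl).symm
        · refine centralizer_le_normalizer T₁ (mem_centralizer_iff.2 fun u hu => ?_)
          exact (mem_centralizer_iff.1 ((closure_le _).2 (show ({a, d} : Set G) ⊆
            centralizer ({y} : Set G) by
            rintro w (rfl | rfl)
            exacts [mem_centralizer_singleton_iff.2 hac.eq, mem_centralizer_singleton_iff.2 hdc.eq])
            hu) y rfl).symm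
        · exact le_normalizer hdT₁
    exact fun x hx y hy => (mem_normalizer_iff.1 (hgen x hx) y).1 hy
  have hL1 : ∀ {u}, u ∈ fixSet D B → u ∈ T₁ → u ∈ lineSet a d := by
    intro u hu hu1
    by_contra hnot
    rw [fixSet_thirteen hD hp h hB ha hb hc hd had hbc hab hac hdb hdc] at hu
    have hu2 := hu.resolve_left hnot
    have hcen : ∀ v ∈ lineSet b c, Commute u v := by
      intro v hv
      have hle : T₁ ≤ centralizer ({v} : Set G) := by
        rw [closure_le]
        rintro w (rfl | rfl) <;> refine mem_centralizer_singleton_iff.2 ?_ <;>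
          rcases hv with rfl | rfl | rfl
        exacts [hab.eq, hac.eq, ((hab.mul_right hac).mul_right hab).eq, hdb.eq, hdc.eq,
          ((hdb.mul_right hdc).mul_right hdb).eq]
      exact mem_centralizer_singleton_iff.1 (hle hu1)
    obtain ⟨-, -, hnc⟩ := line_facts hT hs.conj hb.1 hc.1 hbc
    by_cases e : u = b
    · exact hnc u hu2 c (Or.inr (Or.inl rfl)) (by rw [e]; intro e'; exact hbc (by rw [e']))
        (hcen c (Or.inr (Or.inl rfl)))
    · exact hnc u hu2 b (Or.inl rfl) e (hcen b (Or.inl rfl))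
  have key : ∀ x ∈ N, (x ∈ M ↔ x * a * x⁻¹ ∈ lineSet a d) := by
    intro x hx
    refine ⟨fun hxM => hL1 (hNfix x hx a ha) (hMT₁ x hxM a haT₁), fun hxa => ?_⟩
    have hTM : ∀ {t}, t ∈ T → t ∈ M := fun ht => mem_sup_right ht
    obtain ⟨t₁, ht₁, e₁⟩ : ∃ t ∈ T, t * (x * a * x⁻¹) * t⁻¹ = a := by
      have haT : a ∈ T := subset_closure (by simp)
      have hdT : d ∈ T := subset_closure (by simp)
      have hbr := tt_braid hT ha.1 hd.1 had
      rcases hxa with e | e | e
      · exact ⟨1, one_mem _, by rw [e]; group⟩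
      · refine ⟨d * a, mul_mem hdT haT, ?_⟩
        rw [show x * a * x⁻¹ = d from e, mul_inv_rev, tt_inv hT ha.1, tt_inv hT hd.1]
        calc d * a * d * (a * d) = d * a * d * a * d := by group
          _ = a * d * a * a * d := by rw [← hbr]
          _ = a := by rw [mul_assoc (a * d) a a, tt_mul_self hT ha.1, mul_one, mul_assoc,
            tt_mul_self hT hd.1, mul_one]
      · refine ⟨d, hdT, ?_⟩
        rw [show x * a * x⁻¹ = a * d * a from e, tt_inv hT hd.1, hbr]
        calc d * (d * a * d) * d = (d * d) * a * (d * d) := by group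
          _ = a := by rw [tt_mul_self hT hd.1, one_mul, mul_one]
    set x₁ := t₁ * x
    have hx₁N : x₁ ∈ N := mul_mem (hTN ht₁) hx
    have hx₁a : x₁ * a * x₁⁻¹ = a := by
      conv_rhs => rw [← e₁]
      simp only [x₁]; group
    obtain ⟨t₂, ht₂, e₂a, e₂⟩ : ∃ t ∈ T, t * a * t⁻¹ = a ∧ t * (x₁ * d * x₁⁻¹) * t⁻¹ = d := by
      have hnd : ¬ Commute a (x₁ * d * x₁⁻¹) := fun hcm => had ((conj_commute_iff x₁ a d).1 (by
        rwa [hx₁a]))
      rcases mem_line_of_not_commute hD hp h ha hb hc hd had hbc hab hac hdb hdc hB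
        (hNfix x₁ hx₁N d hd) hnd with e | e
      · exact ⟨1, one_mem _, by group, by rw [e]; group⟩
      · refine ⟨a, subset_closure (by simp), by group, ?_⟩
        rw [e, tt_inv hT ha.1]
        calc a * (a * d * a) * a = (a * a) * d * (a * a) := by group
          _ = d := by rw [tt_mul_self hT ha.1, one_mul, mul_one]
    set x₂ := t₂ * x₁
    have hx₂N : x₂ ∈ N := mul_mem (hTN ht₂) hx₁N
    have hx₂a : x₂ * a * x₂⁻¹ = a := by
      conv_rhs => rw [← e₂a, ← hx₁a]
      simp only [x₂]; group
    have hx₂d : x₂ * d * x₂⁻¹ = d := by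
      conv_rhs => rw [← e₂]
      simp only [x₂]; group
    obtain ⟨t₃, ht₃, e₃a, e₃d, e₃⟩ : ∃ t ∈ T, t * a * t⁻¹ = a ∧ t * d * t⁻¹ = d ∧
        t * (x₂ * b * x₂⁻¹) * t⁻¹ = b := by
      have hbT : b ∈ T := subset_closure (by simp)
      have hcT : c ∈ T := subset_closure (by simp)
      have hy : x₂ * b * x₂⁻¹ ∈ lineSet b c := by
        refine mem_line_of_commute hD hp h ha hb hc hd had hbc hab hac hdb hdc hB
          (hNfix x₂ hx₂N b hb) ?_ ?_
        · have := (conj_commute_iff x₂ a b).2 hab; rwa [hx₂a] at this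
        · have := (conj_commute_iff x₂ d b).2 hdb; rwa [hx₂d] at this
      have hbr := tt_braid hT hb.1 hc.1 hbc
      have fixes : ∀ {t}, Commute a t → t * a * t⁻¹ = a := fun hta => by
        rw [← hta.eq, mul_inv_cancel_right]
      have fixes' : ∀ {t}, Commute d t → t * d * t⁻¹ = d := fun hta => by
        rw [← hta.eq, mul_inv_cancel_right]
      rcases hy with e | e | e
      · exact ⟨1, one_mem _, by group, by group, by rw [e]; group⟩
      · refine ⟨c * b, mul_mem hcT hbT, fixes (hac.mul_right hab), fixes' (hdc.mul_right hdb), ?_⟩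
        rw [show x₂ * b * x₂⁻¹ = c from e, mul_inv_rev, tt_inv hT hb.1, tt_inv hT hc.1]
        calc c * b * c * (b * c) = c * b * c * b * c := by group
          _ = b * c * b * b * c := by rw [← hbr]
          _ = b := by rw [mul_assoc (b * c) b b, tt_mul_self hT hb.1, mul_one, mul_assoc,
            tt_mul_self hT hc.1, mul_one]
      · refine ⟨c, hcT, fixes hac, fixes' hdc, ?_⟩
        rw [show x₂ * b * x₂⁻¹ = b * c * b from e, tt_inv hT hc.1, hbr]
        calc c * (c * b * c) * c = (c * c) * b * (c * c) := by group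
          _ = b := by rw [tt_mul_self hT hc.1, one_mul, mul_one]
    set x₃ := t₃ * x₂
    have hx₃N : x₃ ∈ N := mul_mem (hTN ht₃) hx₂N
    have hx₃a : x₃ * a * x₃⁻¹ = a := by
      conv_rhs => rw [← e₃a, ← hx₂a]
      simp only [x₃]; group
    have hx₃d : x₃ * d * x₃⁻¹ = d := by
      conv_rhs => rw [← e₃d, ← hx₂d]
      simp only [x₃]; group
    have hx₃b : x₃ * b * x₃⁻¹ = b := by
      conv_rhs => rw [← e₃]
      simp only [x₃]; group
    obtain ⟨t₄, ht₄, e₄a, e₄b, e₄d, e₄⟩ : ∃ t ∈ T, t * a * t⁻¹ = a ∧ t * b * t⁻¹ = b ∧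
        t * d * t⁻¹ = d ∧ t * (x₃ * c * x₃⁻¹) * t⁻¹ = c := by
      have hnd : ¬ Commute b (x₃ * c * x₃⁻¹) := fun hcm => hbc ((conj_commute_iff x₃ b c).1 (by
        rwa [hx₃b]))
      rcases mem_line_of_not_commute hD hp h hb ha hd hc hbc had hab.symm hdb.symm hac.symm
        hdc.symm hB (hNfix x₃ hx₃N c hc) hnd with e | e
      · exact ⟨1, one_mem _, by group, by group, by group, by rw [e]; group⟩
      · refine ⟨b, subset_closure (by simp), by rw [← hab.eq, mul_inv_cancel_right], by group,
          by rw [← hdb.eq, mul_inv_cancel_right], ?_⟩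
        rw [e, tt_inv hT hb.1]
        calc b * (b * c * b) * b = (b * b) * c * (b * b) := by group
          _ = c := by rw [tt_mul_self hT hb.1, one_mul, mul_one]
    have hx₄ : t₄ * x₃ ∈ K ⊓ N := by
      refine ⟨mem_centralizer_iff.2 ?_, mul_mem (hTN ht₄) hx₃N⟩
      rintro y (rfl | rfl | rfl | rfl) <;>
        refine (mul_inv_eq_iff_eq_mul.1 ?_).symm
      · conv_rhs => rw [← e₄a, ← hx₃a]
        group
      · conv_rhs => rw [← e₄b, ← hx₃b]
        group
      · conv_rhs => rw [← e₄]
        group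
      · conv_rhs => rw [← e₄d, ← hx₃d]
        group
    have hM4 : t₄ * x₃ ∈ M := mem_sup_left hx₄
    rw [show x = t₁⁻¹ * (t₂⁻¹ * (t₃⁻¹ * (t₄⁻¹ * (t₄ * x₃)))) by simp only [x₃, x₂, x₁]; group]
    exact mul_mem (inv_mem (hTM ht₁)) (mul_mem (inv_mem (hTM ht₂)) (mul_mem (inv_mem (hTM ht₃))
      (mul_mem (inv_mem (hTM ht₄)) hM4)))
  rw [Subgroup.index_eq_two_iff]
  refine ⟨⟨n₀, hn₀⟩, fun x => ?_⟩
  rw [mem_subgroupOf, mem_subgroupOf, key _ (x * ⟨n₀, hn₀⟩).2, key _ x.2]
  have e : ((x : G) * n₀) * a * ((x : G) * n₀)⁻¹ = x * b * (x : G)⁻¹ := by rw [← hn₀b]; group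
  rw [Subgroup.coe_mul, show (((⟨n₀, hn₀⟩ : ↥N) : G)) = n₀ from rfl, e]
  have hcm : Commute ((x : G) * a * (x : G)⁻¹) (x * b * (x : G)⁻¹) := (conj_commute_iff _ a b).2 hab
  have hne : (x : G) * a * (x : G)⁻¹ ≠ x * b * (x : G)⁻¹ := fun e' => had (by
    have e2 := mul_left_cancel (mul_right_cancel e')
    rw [e2]
    exact hdb.symm)
  obtain ⟨-, -, hncA⟩ := line_facts hT hs.conj ha.1 hd.1 had
  obtain ⟨-, -, hncB⟩ := line_facts hT hs.conj hb.1 hc.1 hbc
  have hxa := hNfix x x.2 a ha
  have hxb := hNfix x x.2 b hb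
  rw [fixSet_thirteen hD hp h hB ha hb hc hd had hbc hab hac hdb hdc] at hxa hxb
  rcases hxa with h1 | h1
  · exact Or.inr ⟨h1, fun h2 => hncA _ h1 _ h2 hne hcm⟩
  · rcases hxb with h2 | h2
    · refine Or.inl ⟨h2, fun h3 => hncA _ h3 _ h2 hne hcm⟩
    · exact absurd hcm (hncB _ h1 _ h2 hne)

end six

end H24.Fischer
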